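import Cfsg.Agent.H903.Pw.GowF
import Cfsg.Agent.FourTwo.Cent

/-!
# S2465, `F₄(2)`: the row (helper903)

* `odd_two` : `|K| = 2`: every element of odd order is a product of two elements of order `17` (Gow's theorem);
* `six_of` : `All 6 F₄(2)`, given the elements of `Ps = C(x 44)` and that the elements of even order are conjugate into
  `Ps` or `Pl = C(x 47)`;
* `six_two` : the same for every field with two elements.
-/

set_option autoImplicit false

namespace Cfsg.Agent.H903.Pw.FTwo

open Cfsg Cfsg.Lie Subgroup Cfsg.Agent.H78.Pw Cfsg.Agent.FourTwo.Base Cfsg.Agent.FourTwo.Cent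

universe u

theorem exists_17 {K : Type u} [Field K] [Fintype K] (hK : Fintype.card K = 2) : ∃ x : ↥(chevF4.group K),
    orderOf x = 17 ∧ Nat.card (centralizer ({x} : Set ↥(chevF4.group K))) = 17 := by
  obtain ⟨T, h1, h2, h3⟩ := H892.TExc.T_F4_8 (u := 2) (N := 17) hK (by norm_num) (r := 17) (by norm_num) (by norm_num)
    (by norm_num)
  exact H938.Pw.FThree.exists_cent h1 (by norm_num) h2 (by norm_num) h3

/-- **`F₄(2)`, elements of odd order.** -/
theorem odd_two {K : Type u} [Field K] (hK : Nat.card K = 2) {g : ↥(chevF4.group K)} (hg : ¬ 2 ∣ orderOf g) : Pr 6 g := by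
  have : Finite K := Nat.finite_of_card_ne_zero (by rw [hK]; norm_num)
  let _ : Fintype K := Fintype.ofFinite K
  obtain ⟨x, hx, hc⟩ := exists_17 (K := K) (by rw [← Nat.card_eq_fintype_card, hK])
  exact GowF.pr_of_gow Nat.prime_two hK (x := x) (by rw [hc]; norm_num) (by rw [hx]; norm_num) hg

/-- `Pl` is the image of `Ps` under the graph automorphism. -/
theorem exists_gam : ∃ α : LL ≃* LL, ∀ g ∈ Pl, α g ∈ Ps := by
  obtain ⟨α, hα⟩ := exists_graph
  refine ⟨α, fun g hg => ?_⟩
  rw [← cent_short, mem_centralizer_singleton_iff]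
  rw [← cent_long, mem_centralizer_singleton_iff] at hg
  have h1 : α (x 47) = x 44 := hα 47 (by norm_num)
  rw [← h1, ← map_mul, hg, map_mul]

/-- the elements of `Pl` -/
theorem pl_of (hps : ∀ g ∈ Ps, Pr 6 g) {g : LL} (hg : g ∈ Pl) : Pr 6 g := by
  obtain ⟨α, hα⟩ := exists_gam
  have h1 := (hps _ (hα g hg)).map α.symm.toMonoidHom
  have h2 : α.symm.toMonoidHom (α g) = g := α.symm_apply_apply g
  rwa [h2] at h1

/-- **The row `F₄(2)`.** -/
theorem six_of (hps : ∀ g ∈ Ps, Pr 6 g)
    (hE : ∀ g : LL, Even (orderOf g) → ∃ y : LL, y * g * y⁻¹ ∈ Ps ∨ y * g * y⁻¹ ∈ Pl) : All 6 LL := by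
  intro g
  by_cases h : Even (orderOf g)
  · obtain ⟨y, hy | hy⟩ := hE g h
    · exact (hps _ hy).of_conj
    · exact (pl_of hps hy).of_conj
  · have h2 : ¬ 2 ∣ orderOf g := fun h2 => h (even_iff_two_dvd.2 h2)
    exact odd_two (K := ZMod 2) (Nat.card_zmod 2) h2

/-- the row for every field with two elements -/
theorem six_two (h : All 6 LL) {K : Type u} [Field K] (hK : Nat.card K = 2) : All 6 ↥(chevF4.group K) := by
  have : Finite K := Nat.finite_of_card_ne_zero (by rw [hK]; norm_num)
  let _ : Fintype K := Fintype.ofFinite K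
  have hc : Fintype.card (ZMod 2) = Fintype.card K := by
    rw [ZMod.card, ← Nat.card_eq_fintype_card, hK]
  let e := Cfsg.Agent.H64.ChevField.groupCongr (FiniteField.ringEquivOfCardEq hc) chevF4
  intro g
  have h2 := (h (e.symm g)).map e.toMonoidHom
  have h3 : e.toMonoidHom (e.symm g) = g := e.apply_symm_apply g
  rwa [h3] at h2

end Cfsg.Agent.H903.Pw.FTwo
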