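import Cfsg.Agent.FourTwo.WClass
import Cfsg.Agent.FourTwo.CentC
import Cfsg.Agent.H612.Ore.SpCover

/-!
# S2465, `F₄(2)`: the action of `Ps = C(x 44)` on `W / ⟨x 44⟩` (helper903)

`W = RG wsP = ⟨x 41, …, x 47⟩`.  The codes `v < 64` of `Sp₆(2)` (helper612, `H612/Ore/SpCover`) are the elements of
`W / ⟨x 44⟩`: bits `0, …, 5` are `x 41, x 42, x 43, x 47, x 46, x 45` (`wv v` the product in `W`).

* `rho : ↥Ps →* S` (`S = Sp₆(2)` in matrices), `rho_spec`, `rho_surj`, `ker_le : rho g = 1 → g ∈ RG qsP`;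
* `rho_wd` : the images of the root elements `x r`, `15 ≤ r`, as products of transvections;
* `exists_word` : every `g ∈ Ps` is `Ps`-conjugate to `wd (wds i) * q`, `i < 30`, `q ∈ RG qsP`.
-/

set_option autoImplicit false

namespace Cfsg.Agent.H903.Pw.Rho

open Cfsg Cfsg.Lie Cfsg.Agent.FourTwo.Par Cfsg.Agent.FourTwo.Cent Cfsg.Agent.FourTwo.WClass
open Cfsg.Agent.FourTwo.Base hiding bar bar_lt
open Cfsg.Agent.SporRec.TwoSp6.Sp (S V tr act enc enc_xor act_tr act_mul act_ext om om_enc exists_enc closure_v vc)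
open Cfsg.Agent.H612.Ore (spAct cd cd_enc enc_cd cd_lt B6 B6_om enc_inj tv uc)

/-- the root of the `i`-th bit -/
def bs (i : ℕ) : ℕ := [41, 42, 43, 47, 46, 45].getD i 0

/-- partial words -/
def lp (l : List ℕ) (v : ℕ) : List ℕ := (l.filter fun i => v.testBit i).map bs

/-- the bits in the order of the roots -/
abbrev bits : List ℕ := [0, 1, 2, 5, 4, 3]

/-- the element of `W` with code `v` -/
def wv (v : ℕ) : LL := wd (lp bits v)

theorem bs_mem : ∀ i ∈ bits, bs i ∈ ([41, 42, 43, 44, 45, 46, 47] : List ℕ) := by decide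

theorem lp_mem {l : List ℕ} (hl : ∀ i ∈ l, i ∈ bits) {v s : ℕ} (hs : s ∈ lp l v) :
    s ∈ ([41, 42, 43, 44, 45, 46, 47] : List ℕ) := by
  unfold lp at hs
  rw [List.mem_map] at hs
  obtain ⟨i, hi, rfl⟩ := hs
  exact bs_mem i (hl i (List.mem_of_mem_filter hi))

theorem lp_cons (a : ℕ) (l : List ℕ) (v : ℕ) :
    wd (lp (a :: l) v) = (if v.testBit a then x (bs a) else 1) * wd (lp l v) := by
  unfold lp
  rw [List.filter_cons]
  split_ifs with h
  · rw [List.map_cons, wd_cons]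
  · rw [one_mul]

theorem lp_xor {l : List ℕ} (hl : ∀ i ∈ l, i ∈ bits) (u v : ℕ) :
    wd (lp l (u ^^^ v)) = wd (lp l u) * wd (lp l v) := by
  induction l with
  | nil => simp [lp, wd_nil]
  | cons a l ih =>
    have ih' := ih fun i hi => hl i (List.mem_cons_of_mem _ hi)
    have hc : wd (lp l u) * x (bs a) = x (bs a) * wd (lp l u) :=
      wd_comm ab_ws (bs_mem a (hl a List.mem_cons_self)) _ fun s hs =>
        lp_mem (fun i hi => hl i (List.mem_cons_of_mem _ hi)) hs
    rw [lp_cons, lp_cons, lp_cons, ih', Nat.testBit_xor]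
    have hsq := x_mul_self (bs a)
    cases hu : u.testBit a <;> cases hv : v.testBit a
    · simp
    · simp only [Bool.false_eq_true, if_false, if_true, Bool.false_bne, one_mul]
      rw [← mul_assoc, ← mul_assoc, hc]
    · simp only [Bool.false_eq_true, if_false, if_true, Bool.true_xor, Bool.not_false, one_mul]
      rw [mul_assoc]
    · simp only [Bool.false_eq_true, if_false, if_true, Bool.true_xor, Bool.not_true, one_mul]
      calc wd (lp l u) * wd (lp l v) = x (bs a) * x (bs a) * wd (lp l u) * wd (lp l v) := by rw [hsq, one_mul]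
        _ = x (bs a) * (x (bs a) * wd (lp l u)) * wd (lp l v) := by group
        _ = x (bs a) * (wd (lp l u) * x (bs a)) * wd (lp l v) := by rw [hc]
        _ = _ := by group

theorem wv_xor (u v : ℕ) : wv (u ^^^ v) = wv u * wv v := lp_xor (fun _ h => h) u v

theorem wv_zero : wv 0 = 1 := by
  show wd (lp bits 0) = 1
  have : lp bits 0 = [] := by decide
  rw [this, wd_nil]

theorem wv_pow : ∀ i < 6, wv (2 ^ i) = x (bs i) := by
  intro i hi
  have h : ∀ i < 6, lp bits (2 ^ i) = [bs i] := by decide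
  unfold wv
  rw [h i hi, wd_one]

theorem wv_comm44 (v : ℕ) : wv v * x 44 = x 44 * wv v :=
  wd_comm ab_ws (by decide) _ fun _ hs => lp_mem (fun _ h => h) hs

theorem wv_sq (v : ℕ) : wv v * wv v = 1 := by rw [← wv_xor, Nat.xor_self, wv_zero]

/-- induction on codes -/
theorem xor_ind {P : ℕ → Prop} (h0 : P 0) (hb : ∀ i < 6, P (2 ^ i))
    (hx : ∀ u v, u < 64 → v < 64 → P u → P v → P (u ^^^ v)) : ∀ v < 64, P v := by
  have key : ∀ k ≤ 6, ∀ v < 2 ^ k, P v := by
    intro k
    induction k with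
    | zero =>
      intro _ v hv
      have : v = 0 := by simpa using hv
      rw [this]; exact h0
    | succ k ih =>
      intro hk v hv
      have ih' := ih (by omega)
      by_cases h : v < 2 ^ k
      · exact ih' v h
      · have ht : ∀ k < 6, ∀ v < 64, ¬ v < 2 ^ k → v < 2 ^ (k + 1) → v ^^^ 2 ^ k < 2 ^ k := by decide +kernel
        have hv64 : v < 64 := lt_of_lt_of_le hv (Nat.pow_le_pow_right (by norm_num) hk)
        have h1 := ht k (by omega) v hv64 h hv
        have h2 := hx (v ^^^ 2 ^ k) (2 ^ k) (lt_of_lt_of_le h1 (Nat.pow_le_pow_right (n := 2) (j := 6) (by norm_num) (by omega)))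
          (Nat.pow_lt_pow_right (a := 2) (n := 6) (by norm_num) (by omega)) (ih' _ h1) (hb k (by omega))
        rwa [Nat.xor_assoc, Nat.xor_self, Nat.xor_zero] at h2
  exact key 6 le_rfl

/-! ### uniqueness -/

theorem lp_tab : ((List.range 64).all fun v =>
    decide (lp bits v = (Cfsg.Agent.ChevalleyStructure.F4TwU.posList 24).filter fun r => (lp bits v).contains r) &&
      (decide (v = 0) || (lp bits v).any fun r => decide (24 ≤ r) && decide (r < 48) && decide (r ≠ 44))) = true := by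
  decide +kernel

theorem closed44 : closedB (fun r => decide (r = 44)) = true := by decide +kernel

theorem eq_zero_of {v : ℕ} (hv : v < 64) (h : wv v = 1 ∨ wv v = x 44) : v = 0 := by
  have h1 := lp_tab
  rw [List.all_eq_true] at h1
  have h2 := h1 v (List.mem_range.2 hv)
  rw [Bool.and_eq_true, decide_eq_true_eq, Bool.or_eq_true, decide_eq_true_eq] at h2
  obtain ⟨h3, h4⟩ := h2
  rcases h4 with h4 | h4
  · exact h4
  exfalso
  have h5 : wv v ∈ RG (fun r => decide (r = 44)) := by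
    rcases h with h | h
    · rw [h]; exact one_mem _
    · rw [h]; exact x_mem_RG (by norm_num) (by decide)
  unfold wv at h5
  rw [h3] at h5
  rw [mem_RG_iff closed44] at h5
  rw [List.any_eq_true] at h4
  obtain ⟨r, hr, h6⟩ := h4
  simp only [Bool.and_eq_true, decide_eq_true_eq] at h6
  have h7 := h5 r h6.1.1 h6.1.2 (List.contains_iff_mem.2 hr)
  exact h6.2 (of_decide_eq_true h7)

theorem wv_inj {u v : ℕ} (hu : u < 64) (hv : v < 64) (h : wv u = wv v ∨ wv u = wv v * x 44) : u = v := by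
  have h1 : u ^^^ v < 64 := Nat.xor_lt_two_pow (n := 6) hu hv
  have h2 : u ^^^ v = 0 := by
    apply eq_zero_of h1
    rw [wv_xor]
    rcases h with h | h
    · left
      rw [h, wv_sq]
    · right
      rw [h, mul_assoc, ← wv_comm44, ← mul_assoc, wv_sq, one_mul]
  exact Nat.xor_eq_zero_iff.1 h2

/-! ### the relation -/

/-- `g` acts as `M` -/
def Rel (g : LL) (M : S) : Prop :=
  g * x 44 = x 44 * g ∧ ∀ v < 64, g * wv v * g⁻¹ = wv (spAct.ap M v) ∨ g * wv v * g⁻¹ = wv (spAct.ap M v) * x 44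

theorem conj44 {g : LL} (h : g * x 44 = x 44 * g) : g * x 44 * g⁻¹ = x 44 := by rw [h, mul_inv_cancel_right]

theorem Rel.one : Rel 1 1 := by
  refine ⟨by rw [one_mul, mul_one], fun v hv => Or.inl ?_⟩
  rw [spAct.one v hv, one_mul, inv_one, mul_one]

theorem Rel.mul {g h : LL} {M N : S} (hg : Rel g M) (hh : Rel h N) : Rel (g * h) (M * N) := by
  refine ⟨by rw [mul_assoc, hh.1, ← mul_assoc, hg.1, mul_assoc], fun v hv => ?_⟩
  have hN : spAct.ap N v < 64 := spAct.lt N v hv
  have h2 := hg.2 _ hN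
  rw [spAct.mul M N v hv]
  have e : g * h * wv v * (g * h)⁻¹ = g * (h * wv v * h⁻¹) * g⁻¹ := by group
  rw [e]
  rcases hh.2 v hv with h1 | h1
  · rw [h1]; exact h2
  · rw [h1]
    have e2 : g * (wv (spAct.ap N v) * x 44) * g⁻¹ = g * wv (spAct.ap N v) * g⁻¹ * x 44 := by
      calc _ = g * wv (spAct.ap N v) * g⁻¹ * (g * x 44 * g⁻¹) := by group
        _ = _ := by rw [conj44 hg.1]
    rw [e2]
    rcases h2 with h2 | h2
    · right; rw [h2]
    · left; rw [h2, mul_assoc, x_mul_self, mul_one]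

theorem Rel.inv {g : LL} {M : S} (hg : Rel g M) : Rel g⁻¹ M⁻¹ := by
  have h44 : g⁻¹ * x 44 = x 44 * g⁻¹ := by
    rw [inv_mul_eq_iff_eq_mul, ← mul_assoc, hg.1, mul_inv_cancel_right]
  refine ⟨h44, fun v hv => ?_⟩
  have hv' : spAct.ap M⁻¹ v < 64 := spAct.lt _ v hv
  have h1 : spAct.ap M (spAct.ap M⁻¹ v) = v := by
    rw [← spAct.mul M M⁻¹ v hv, mul_inv_cancel, spAct.one v hv]
  rw [inv_inv]
  rcases hg.2 _ hv' with h2 | h2
  · left
    rw [h1] at h2
    rw [← h2]; group
  · right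
    rw [h1] at h2
    have h3 : wv v = g * wv (spAct.ap M⁻¹ v) * g⁻¹ * x 44 := by
      rw [h2, mul_assoc, x_mul_self, mul_one]
    rw [h3]
    calc g⁻¹ * (g * wv (spAct.ap M⁻¹ v) * g⁻¹ * x 44) * g = wv (spAct.ap M⁻¹ v) * (g⁻¹ * x 44) * g := by group
      _ = wv (spAct.ap M⁻¹ v) * (x 44 * g⁻¹) * g := by rw [h44]
      _ = _ := by group

theorem Rel.unique {g : LL} {M N : S} (hM : Rel g M) (hN : Rel g N) : M = N := by
  have h : ∀ v < 64, spAct.ap M v = spAct.ap N v := by
    intro v hv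
    apply wv_inj (spAct.lt M v hv) (spAct.lt N v hv)
    rcases hM.2 v hv with h1 | h1 <;> rcases hN.2 v hv with h2 | h2
    · left; rw [← h1, h2]
    · right; rw [← h1, h2]
    · right
      rw [← h2, h1, mul_assoc, x_mul_self, mul_one]
    · left
      exact mul_right_cancel (h1.symm.trans h2)
  have h2 : N⁻¹ * M = 1 := by
    apply spAct.faithful
    intro i hi
    have hp : 2 ^ i < 64 := Nat.pow_lt_pow_right (a := 2) (n := 6) (by norm_num) hi
    rw [spAct.mul _ _ _ hp, h _ hp, ← spAct.mul _ _ _ hp, inv_mul_cancel, spAct.one _ hp]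
  rw [inv_mul_eq_one] at h2
  exact h2.symm

/-- it is enough to test the basis -/
theorem Rel.of_basis {g : LL} {M : S} (h44 : g * x 44 = x 44 * g)
    (h : ∀ i < 6, g * x (bs i) * g⁻¹ = wv (spAct.ap M (2 ^ i)) ∨ g * x (bs i) * g⁻¹ = wv (spAct.ap M (2 ^ i)) * x 44) :
    Rel g M := by
  refine ⟨h44, xor_ind ?_ ?_ ?_⟩
  · left
    rw [wv_zero, spAct.ap_zero, wv_zero, mul_one, mul_inv_cancel]
  · intro i hi
    rw [wv_pow i hi]
    exact h i hi
  · intro u v hu hv h1 h2
    rw [wv_xor, spAct.xor _ _ _ hu hv, wv_xor]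
    have e : g * (wv u * wv v) * g⁻¹ = (g * wv u * g⁻¹) * (g * wv v * g⁻¹) := by group
    rw [e]
    rcases h1 with h1 | h1 <;> rcases h2 with h2 | h2
    · left; rw [h1, h2]
    · right; rw [h1, h2, mul_assoc]
    · right; rw [h1, h2, mul_assoc, mul_assoc, wv_comm44]
    · left
      rw [h1, h2]
      calc wv (spAct.ap M u) * x 44 * (wv (spAct.ap M v) * x 44)
          = wv (spAct.ap M u) * (x 44 * wv (spAct.ap M v)) * x 44 := by group
        _ = wv (spAct.ap M u) * (wv (spAct.ap M v) * x 44) * x 44 := by rw [wv_comm44]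
        _ = wv (spAct.ap M u) * wv (spAct.ap M v) * (x 44 * x 44) := by group
        _ = _ := by rw [x_mul_self, mul_one]

/-! ### the root elements -/

/-- the transvections of `x r` -/
def mtT : List (List ℕ) := [[2, 3, 1], [4, 5, 1], [4, 6, 2], [1], [2], [4], [32, 33, 1], [32, 34, 2], [16, 17, 1],
  [8, 10, 2], [16, 20, 4], [8, 12, 4], [32], [16], [8], [32, 48, 16], [32, 40, 8], [16, 24, 8]]

def mt (r : ℕ) : List ℕ := mtT.getD (r - 15) []

/-- a transvection on codes -/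
def stc (c v : ℕ) : ℕ := if B6 v c then v ^^^ c else v

/-- a product of transvections -/
def T (l : List ℕ) : S := (l.map fun c => tr (enc c)).prod

theorem ap_tr {c v : ℕ} (hc : c < 64) (hv : v < 64) : spAct.ap (tr (enc c)) v = stc c v := by
  show cd (act (tr (enc c)) (enc v)) = stc c v
  rw [act_tr]
  unfold stc
  rw [B6_om hv hc]
  rcases Cfsg.Agent.SporRec.TwoSp6.Sp.om_cases (enc v) (enc c) with h | h
  · rw [h, zero_smul, add_zero, cd_enc v hv]
    simp
  · rw [h, one_smul, ← enc_xor, cd_enc _ (Nat.xor_lt_two_pow (n := 6) hv hc)]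
    simp

theorem stc_lt {c v : ℕ} (hc : c < 64) (hv : v < 64) : stc c v < 64 := by
  unfold stc
  split_ifs
  · exact Nat.xor_lt_two_pow (n := 6) hv hc
  · exact hv

theorem ap_T : ∀ {l : List ℕ}, (∀ c ∈ l, c < 64) → ∀ {v : ℕ}, v < 64 →
    spAct.ap (T l) v = l.foldr stc v ∧ l.foldr stc v < 64
  | [], _, v, hv => ⟨spAct.one v hv, hv⟩
  | c :: l, hl, v, hv => by
    have ih := ap_T (l := l) (fun d hd => hl d (List.mem_cons_of_mem _ hd)) hv
    have hc := hl c List.mem_cons_self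
    refine ⟨?_, stc_lt hc ih.2⟩
    show spAct.ap (T (c :: l)) v = stc c (l.foldr stc v)
    have e : T (c :: l) = tr (enc c) * T l := by simp [T]
    rw [e, spAct.mul _ _ v hv, ih.1, ap_tr hc ih.2]

/-- the check for one root and one basis vector -/
def okG (r i : ℕ) : Bool :=
  chk [r, bs i, r] (lp bits ((mt r).foldr stc (2 ^ i))) || chk [r, bs i, r] (lp bits ((mt r).foldr stc (2 ^ i)) ++ [44])

theorem okG_all : ((List.range 33).all fun k => (List.range 6).all fun i => okG (15 + k) i) = true := by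
  decide +kernel

theorem mt_lt : ∀ k < 33, ∀ c ∈ mt (15 + k), c < 64 := by decide

theorem x_comm44 {r : ℕ} (h1 : 15 ≤ r) (h2 : r < 48) : x r * x 44 = x 44 * x r := by
  have h : x r ∈ Ps := x_mem_RG h2 (by unfold psP; exact decide_eq_true h1)
  rwa [← cent_short, Subgroup.mem_centralizer_singleton_iff] at h

theorem rel_x {r : ℕ} (h1 : 15 ≤ r) (h2 : r < 48) : Rel (x r) (T (mt r)) := by
  refine Rel.of_basis (x_comm44 h1 h2) fun i hi => ?_
  have h3 := okG_all
  rw [List.all_eq_true] at h3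
  have h4 := h3 (r - 15) (List.mem_range.2 (by omega))
  rw [List.all_eq_true] at h4
  have h5 := h4 i (List.mem_range.2 hi)
  rw [show 15 + (r - 15) = r by omega] at h5
  unfold okG at h5
  rw [Bool.or_eq_true] at h5
  have hm := mt_lt (r - 15) (by omega)
  rw [show 15 + (r - 15) = r by omega] at hm
  have hp : 2 ^ i < 64 := Nat.pow_lt_pow_right (a := 2) (n := 6) (by norm_num) hi
  have h6 := (ap_T hm hp).1
  rw [h6, x_inv]
  have e : wd [r, bs i, r] = x r * x (bs i) * x r := by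
    rw [wd_cons, wd_cons, wd_one, mul_assoc]
  rcases h5 with h5 | h5
  · left
    have h7 := wd_eq _ _ h5
    rw [e] at h7
    exact h7
  · right
    have h7 := wd_eq _ _ h5
    rw [e, wd_append, wd_one] at h7
    exact h7

/-- **Existence.** -/
theorem exists_rel {g : LL} (hg : g ∈ Ps) : ∃ M : S, Rel g M := by
  refine Subgroup.closure_induction (p := fun g _ => ∃ M : S, Rel g M) ?_ ⟨1, Rel.one⟩ ?_ ?_ hg
  · rintro _ ⟨r, hr, hp, rfl⟩
    exact ⟨_, rel_x (of_decide_eq_true hp) hr⟩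
  · rintro g h - - ⟨M, hM⟩ ⟨N, hN⟩
    exact ⟨_, hM.mul hN⟩
  · rintro g - ⟨M, hM⟩
    exact ⟨_, hM.inv⟩

/-- **The action of `Ps` on `W / ⟨x 44⟩`.** -/
noncomputable def rho : ↥Ps →* S where
  toFun g := (exists_rel g.2).choose
  map_one' := ((exists_rel (1 : ↥Ps).2).choose_spec).unique Rel.one
  map_mul' g h := ((exists_rel (g * h).2).choose_spec).unique
    ((exists_rel g.2).choose_spec.mul (exists_rel h.2).choose_spec)

theorem rho_rel (g : ↥Ps) : Rel g (rho g) := (exists_rel g.2).choose_spec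

theorem rho_eq {g : ↥Ps} {M : S} (h : Rel g M) : rho g = M := (rho_rel g).unique h

/-! ### the kernel -/

theorem iv_tab : ((List.range 6).all fun i => decide (Cfsg.Agent.FourTwo.ClassSep.iv [bs i] ≠
    Cfsg.Agent.FourTwo.ClassSep.iv [bs i, 44]) && decide (bs i < 48)) = true := by decide +kernel

theorem not_conj_bs {i : ℕ} (hi : i < 6) (y : LL) : y * x (bs i) * y⁻¹ ≠ x (bs i) * x 44 := by
  have h := iv_tab
  rw [List.all_eq_true] at h
  have h2 := h i (List.mem_range.2 hi)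
  rw [Bool.and_eq_true, decide_eq_true_eq, decide_eq_true_eq] at h2
  intro hy
  have h3 := Cfsg.Agent.FourTwo.ClassSep.rk2_conj y (x (bs i))
  have e1 : x (bs i) = wd [bs i] := (wd_one _).symm
  have e2 : x (bs i) * x 44 = wd [bs i, 44] := by rw [wd_cons, wd_one]
  rw [hy, e2, e1, Cfsg.Agent.FourTwo.ClassSep.rk2_wd _ (by simp [h2.2]),
    Cfsg.Agent.FourTwo.ClassSep.rk2_wd _ (by simp [h2.2])] at h3
  exact h2.1 h3.symm

/-- the roots of `Q` -/
def qsP (r : ℕ) : Bool := decide (33 ≤ r)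

/-- `C(W) ≤ Q` -/
theorem mem_Q_of {g : LL} (h : ∀ k, k < 7 → g * x (41 + k) = x (41 + k) * g) : g ∈ RG qsP := by
  obtain ⟨a, -, ha⟩ := Cfsg.Agent.FourTwo.CentC.centW (g := (g : GL chevF4.Idx (ZMod 2))) g.2 (fun k hk => by
    have h1 := congrArg (fun z : LL => (z : GL chevF4.Idx (ZMod 2))) (h k hk)
    simp only [Subgroup.coe_mul, coe_x] at h1
    exact h1)
  have e : g = wd ((Cfsg.Agent.FourTwo.UCode.lets (a * 2 ^ 9)).map fun c => 24 + c) := by
    apply Subtype.ext
    rw [ha]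
    show Cfsg.Agent.FourTwo.UCode.el (ZMod 2) (a * 2 ^ 9) = _
    rw [← Cfsg.Agent.FourTwo.UCode.wel_lets]
    induction Cfsg.Agent.FourTwo.UCode.lets (a * 2 ^ 9) with
    | nil => rfl
    | cons c w ih =>
      rw [Cfsg.Agent.FourTwo.UCode.wel_cons, ih, List.map_cons, wd_cons]
      rfl
  rw [e]
  refine wd_mem_RG fun r hr => ?_
  rw [List.mem_map] at hr
  obtain ⟨c, hc, rfl⟩ := hr
  rw [Cfsg.Agent.FourTwo.UCode.mem_lets] at hc
  have h1 : 9 ≤ c := by
    by_contra h1
    push Not at h1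
    rw [Nat.testBit_mul_two_pow] at hc
    simp at hc
    omega
  exact ⟨by omega, by unfold qsP; exact decide_eq_true (by omega)⟩

/-- **The kernel lies in `Q`.** -/
theorem mem_Q_of_rel {g : LL} (h : Rel g 1) : g ∈ RG qsP := by
  have h1 : ∀ i < 6, g * x (bs i) = x (bs i) * g := by
    intro i hi
    have hp : 2 ^ i < 64 := Nat.pow_lt_pow_right (a := 2) (n := 6) (by norm_num) hi
    have h2 := h.2 (2 ^ i) hp
    rw [spAct.one _ hp, wv_pow i hi] at h2
    rcases h2 with h2 | h2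
    · calc g * x (bs i) = g * x (bs i) * g⁻¹ * g := by group
        _ = x (bs i) * g := by rw [h2]
    · exact absurd h2 (not_conj_bs hi g)
  refine mem_Q_of fun k hk => ?_
  by_cases h3 : k = 3
  · have e : 41 + k = 44 := by omega
    rw [e]; exact h.1
  · have h4 : ∀ k < 7, k ≠ 3 → ∃ i < 6, bs i = 41 + k := by decide
    obtain ⟨i, hi, h5⟩ := h4 k hk h3
    rw [← h5]
    exact h1 i hi

theorem ker_le {g : ↥Ps} (h : rho g = 1) : (g : LL) ∈ RG qsP := by
  apply mem_Q_of_rel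
  rw [← h]
  exact rho_rel g

theorem qs_le : RG qsP ≤ Ps := RG_mono fun r _ h => by
  unfold qsP at h
  unfold psP
  exact decide_eq_true (by have := of_decide_eq_true h; omega)

/-! ### words -/

/-- the matrix of a word -/
def mw (w : List ℕ) : S := (w.map fun r => T (mt r)).prod

theorem rel_wd : ∀ {w : List ℕ}, (∀ r ∈ w, 15 ≤ r ∧ r < 48) → Rel (wd w) (mw w)
  | [], _ => Rel.one
  | r :: w, hw => by
    rw [wd_cons]
    have e : mw (r :: w) = T (mt r) * mw w := by simp [mw]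
    rw [e]
    exact (rel_x (hw r List.mem_cons_self).1 (hw r List.mem_cons_self).2).mul
      (rel_wd fun q hq => hw q (List.mem_cons_of_mem _ hq))

theorem wd_mem_Ps {w : List ℕ} (hw : ∀ r ∈ w, 15 ≤ r ∧ r < 48) : wd w ∈ Ps :=
  wd_mem_RG fun r hr => ⟨(hw r hr).2, by unfold psP; exact decide_eq_true (hw r hr).1⟩

theorem T_append (l l' : List ℕ) : T (l ++ l') = T l * T l' := by simp [T]

theorem mw_eq_T (w : List ℕ) : mw w = T (w.flatMap mt) := by
  induction w with
  | nil => rfl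
  | cons r w ih =>
    rw [List.flatMap_cons, T_append, ← ih]
    simp [mw]

/-- equality of two products of transvections -/
theorem T_eq {l l' : List ℕ} (hl : ∀ c ∈ l, c < 64) (hl' : ∀ c ∈ l', c < 64)
    (h : ∀ i < 6, l.foldr stc (2 ^ i) = l'.foldr stc (2 ^ i)) : T l = T l' := by
  have h2 : (T l')⁻¹ * T l = 1 := by
    apply spAct.faithful
    intro i hi
    have hp : 2 ^ i < 64 := Nat.pow_lt_pow_right (a := 2) (n := 6) (by norm_num) hi
    rw [spAct.mul _ _ _ hp, (ap_T hl hp).1, h i hi, ← (ap_T hl' hp).1, ← spAct.mul _ _ _ hp, inv_mul_cancel,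
      spAct.one _ hp]
  rw [inv_mul_eq_one] at h2
  exact h2.symm

/-- words for the transvections `tv j` of helper612 (dictionary of helper335) -/
def tw (j : ℕ) : List ℕ := [[18], [29], [23, 19, 23], [30, 20, 30], [27], [20], [28]].getD j []

theorem tw_tab : ∀ j < 7, (∀ c ∈ (tw j).flatMap mt, c < 64) ∧ (∀ r ∈ tw j, 15 ≤ r ∧ r < 48) ∧
    ∀ i < 6, ((tw j).flatMap mt).foldr stc (2 ^ i) = stc (uc j) (2 ^ i) := by decide +kernel

theorem uc_lt' : ∀ j < 7, uc j < 64 := by decide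

theorem mw_tw {j : ℕ} (hj : j < 7) : mw (tw j) = tv j := by
  obtain ⟨h1, -, h3⟩ := tw_tab j hj
  rw [mw_eq_T]
  have e : tv j = T [uc j] := by simp [T, tv]
  rw [e]
  exact T_eq h1 (by simpa using uc_lt' j hj) h3

/-- the words of the representatives of helper612 in root elements -/
def wds (i : ℕ) : List ℕ := (Cfsg.Agent.H612.Ore.rws.getD i []).flatMap tw

theorem rws_lt : ∀ i < 30, ∀ j ∈ Cfsg.Agent.H612.Ore.rws.getD i [], j < 7 := by decide +kernel

theorem mw_append (w w' : List ℕ) : mw (w ++ w') = mw w * mw w' := by simp [mw]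

theorem mw_flat : ∀ {w : List ℕ}, (∀ j ∈ w, j < 7) → mw (w.flatMap tw) = Cfsg.Agent.H612.Ore.wd tv w
  | [], _ => rfl
  | j :: w, hw => by
    rw [List.flatMap_cons, mw_append, mw_tw (hw j List.mem_cons_self),
      mw_flat fun q hq => hw q (List.mem_cons_of_mem _ hq)]
    rfl

theorem flat_bd {w : List ℕ} (hw : ∀ j ∈ w, j < 7) : ∀ r ∈ w.flatMap tw, 15 ≤ r ∧ r < 48 := by
  intro r hr
  rw [List.mem_flatMap] at hr
  obtain ⟨j, hj, hr⟩ := hr
  exact (tw_tab j (hw j hj)).2.1 r hr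

/-- words for the generators `tr (v i)` -/
def vw (i : ℕ) : List ℕ := [[18], [30, 27, 28], [29], [15, 18, 19], [28], [17, 20, 19], [27]].getD i []

theorem vw_tab : ∀ i : Fin 7, (∀ c ∈ (vw i).flatMap mt, c < 64) ∧ (∀ r ∈ vw i, 15 ≤ r ∧ r < 48) ∧ vc i < 64 ∧
    ∀ k < 6, ((vw i).flatMap mt).foldr stc (2 ^ k) = stc (vc i) (2 ^ k) := by decide +kernel

/-- **`rho` is surjective.** -/
theorem rho_surj : Function.Surjective rho := by
  rw [← MonoidHom.range_eq_top, eq_top_iff, ← closure_v, Subgroup.closure_le]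
  rintro _ ⟨i, rfl⟩
  obtain ⟨h1, h2, h3, h4⟩ := vw_tab i
  have h5 : rho ⟨wd (vw i), wd_mem_Ps h2⟩ = mw (vw i) := rho_eq (rel_wd h2)
  have e : tr (enc (vc i)) = T [vc i] := by simp [T]
  have h6 : mw (vw i) = tr (enc (vc i)) := by
    rw [mw_eq_T, e]
    exact T_eq h1 (by simpa using h3) h4
  exact ⟨⟨wd (vw i), wd_mem_Ps h2⟩, h5.trans h6⟩

/-- **Representatives.** -/
theorem exists_word {g : LL} (hg : g ∈ Ps) : ∃ i, i < 30 ∧ ∃ y ∈ Ps, ∃ q ∈ RG qsP, y * g * y⁻¹ = wd (wds i) * q := by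
  obtain ⟨i, hi, h, hh⟩ := Cfsg.Agent.H612.Ore.exists_rep30 (rho ⟨g, hg⟩)
  obtain ⟨y, rfl⟩ := rho_surj h
  have hw := flat_bd (rws_lt i hi)
  refine ⟨i, hi, y, y.2, (wd (wds i))⁻¹ * (y * g * (y : LL)⁻¹), ?_, by group⟩
  have h1 : Rel (wd (wds i)) (Cfsg.Agent.H612.Ore.wd tv (Cfsg.Agent.H612.Ore.rws.getD i [])) := by
    rw [← mw_flat (rws_lt i hi)]
    exact rel_wd hw
  have h2 : Rel ((y : LL) * g * (y : LL)⁻¹) (Cfsg.Agent.H612.Ore.wd tv (Cfsg.Agent.H612.Ore.rws.getD i [])) := by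
    rw [← hh]
    exact ((rho_rel y).mul (rho_rel ⟨g, hg⟩)).mul (rho_rel y).inv
  apply mem_Q_of_rel
  have h3 := h1.inv.mul h2
  rwa [inv_mul_cancel] at h3

theorem rws_len : Cfsg.Agent.H612.Ore.rws.length = 30 := by decide +kernel

/-- **Representatives**, as members of the list of helper612. -/
theorem exists_word' {g : LL} (hg : g ∈ Ps) : ∃ w ∈ Cfsg.Agent.H612.Ore.rws, ∃ y ∈ Ps, ∃ q ∈ RG qsP,
    y * g * y⁻¹ = wd (w.flatMap tw) * q := by
  obtain ⟨i, hi, h⟩ := exists_word hg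
  refine ⟨Cfsg.Agent.H612.Ore.rws.getD i [], ?_, h⟩
  rw [List.getD_eq_getElem _ _ (by rw [rws_len]; exact hi)]
  exact List.getElem_mem _

end Cfsg.Agent.H903.Pw.Rho
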