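import Cfsg.Agent.H330.Gow
import Cfsg.Agent.H938.Pw.FThree
import Cfsg.Agent.H64.ChevField
import Cfsg.Agent.H78.Pw.Base

/-!
# S2465, `F₄(p)`, `p` a prime: the elements of order prime to `p` (Gow's theorem)

* `gowF` : `|K| = r` prime, `x` with centralizer of order prime to `r`: every `z ≠ 1` of order prime to `r` is a product
  of two conjugates of `x`.
* `three` : `|K| = 3`: every `g` of order prime to `3` is `Pr 6`.
-/

set_option autoImplicit false

namespace Cfsg.Agent.H903.Pw.GowF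

open Cfsg Cfsg.Lie Subgroup Cfsg.Agent.H78.Pw

universe u

/-- isomorphic groups -/
theorem card_cent_map {G : Type*} {H : Type*} [Group G] [Group H] (e : G ≃* H) (x : G) :
    Nat.card ↥(centralizer ({e x} : Set H)) = Nat.card ↥(centralizer ({x} : Set G)) := by
  refine (Nat.card_congr (Equiv.subtypeEquiv e.toEquiv fun g => ?_)).symm
  rw [mem_centralizer_singleton_iff, mem_centralizer_singleton_iff]
  constructor
  · intro h
    have h1 : e (g * x) = e (x * g) := congrArg e h
    rw [map_mul, map_mul] at h1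
    exact h1
  · intro h
    have h1 : e (g * x) = e (x * g) := by
      rw [map_mul, map_mul]
      exact h
    exact e.injective h1

/-- Gow's theorem for `F₄(K)`, `|K| = r` prime. -/
theorem gowF {K : Type u} [Field K] {r : ℕ} (hr : r.Prime) (hK : Nat.card K = r) {x z : ↥(chevF4.group K)}
    (hx : ¬ r ∣ Nat.card ↥(centralizer ({x} : Set ↥(chevF4.group K)))) (hz : z ≠ 1) (hzr : ¬ r ∣ orderOf z) :
    ∃ a b : ↥(chevF4.group K), z = a * b ∧ IsConj x a ∧ IsConj x b := by
  have : Fact r.Prime := ⟨hr⟩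
  have : Finite K := Nat.finite_of_card_ne_zero (by rw [hK]; exact hr.ne_zero)
  let _ : Fintype K := Fintype.ofFinite K
  have hc : Fintype.card K = Fintype.card (ZMod r) := by
    rw [ZMod.card, ← Nat.card_eq_fintype_card, hK]
  let e := Cfsg.Agent.H64.ChevField.groupCongr (FiniteField.ringEquivOfCardEq hc) chevF4
  have hL : IsLieTypeChar r ↥(chevF4.group (ZMod r)) :=
    Or.inr (Or.inr (Or.inr (Or.inr (Or.inr (Or.inr (Or.inl
      ⟨ZMod r, inferInstance, inferInstance, inferInstance, Or.inr (Or.inl ⟨MulEquiv.refl _⟩)⟩))))))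
  have h1 : ¬ r ∣ Nat.card ↥(centralizer ({e x} : Set ↥(chevF4.group (ZMod r)))) := by
    rw [card_cent_map e x]
    exact hx
  have h2 : e z ≠ 1 := fun h => hz (by rwa [MulEquiv.map_eq_one_iff] at h)
  have h3 : ¬ r ∣ orderOf (e z) := by
    rw [MulEquiv.orderOf_eq]
    exact hzr
  obtain ⟨g, h, hgh⟩ := H330.Gow.gow hr hL h1 h1 h2 h3
  refine ⟨e.symm g * x * (e.symm g)⁻¹, e.symm h * x * (e.symm h)⁻¹, ?_, isConj_iff.2 ⟨_, rfl⟩, isConj_iff.2 ⟨_, rfl⟩⟩
  apply e.injective
  rw [← hgh]
  simp only [map_mul, map_inv, MulEquiv.apply_symm_apply]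

/-- an element of order `s` prime to `n` with centralizer of order prime to `r` -/
theorem pr_of_gow {K : Type u} [Field K] {r : ℕ} (hr : r.Prime) (hK : Nat.card K = r) {n : ℕ} {x z : ↥(chevF4.group K)}
    (hx : ¬ r ∣ Nat.card ↥(centralizer ({x} : Set ↥(chevF4.group K)))) (hn : (orderOf x).Coprime n)
    (hzr : ¬ r ∣ orderOf z) : Pr n z := by
  by_cases hz : z = 1
  · rw [hz]; exact Pr.one n
  obtain ⟨a, b, h1, ha, hb⟩ := gowF hr hK hx hz hzr
  obtain ⟨g, hg⟩ := isConj_iff.1 ha
  obtain ⟨h, hh⟩ := isConj_iff.1 hb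
  have h2 : orderOf a = orderOf x := by
    rw [← hg]
    exact (MulAut.conj g).orderOf_eq x
  have h3 : orderOf b = orderOf x := by
    rw [← hh]
    exact (MulAut.conj h).orderOf_eq x
  exact ⟨a, b, h1, by rwa [h2], by rwa [h3]⟩

/-- **`F₄(3)`, elements of order prime to `3`.** -/
theorem three {K : Type u} [Field K] (hK : Nat.card K = 3) {g : ↥(chevF4.group K)} (hg : ¬ 3 ∣ orderOf g) : Pr 6 g := by
  have : Finite K := Nat.finite_of_card_ne_zero (by rw [hK]; norm_num)
  let _ : Fintype K := Fintype.ofFinite K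
  obtain ⟨x, hx, hc⟩ := H938.Pw.FThree.exists_73 (K := K) (by rw [← Nat.card_eq_fintype_card, hK])
  exact pr_of_gow Nat.prime_three hK (x := x) (by rw [hc]; norm_num) (by rw [hx]; norm_num) hg

/-- **`F₄(3)`, elements with a small centralizer.** -/
theorem small_three {K : Type u} [Field K] (hK : Nat.card K = 3) {g : ↥(chevF4.group K)}
    (hg : Nat.card (centralizer ({g} : Set ↥(chevF4.group K))) ≤ 4976985092) : Pr 6 g := by
  have : Finite K := Nat.finite_of_card_ne_zero (by rw [hK]; norm_num)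
  let _ : Fintype K := Fintype.ofFinite K
  obtain ⟨x, y, hx, hy, h⟩ := H938.Pw.FThree.prod (K := K) (by rw [← Nat.card_eq_fintype_card, hK]) hg
  exact ⟨x, y, h, by rw [hx]; norm_num, by rw [hy]; norm_num⟩

end Cfsg.Agent.H903.Pw.GowF
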